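import Cfsg.Agent.H55.JThreeOut
import Cfsg.Agent.S2067
import Cfsg.Agent.H921.K4.Uniq_m3
import Cfsg.Agent.H740.K4.Equiv_m3
import Cfsg.Agent.H741.Pd.Base
import Cfsg.Agent.H90.K4.JThree
import Cfsg.Agent.H775.Sd.ChevElem_mg_m3
import Cfsg.Agent.H69.OutCount
import Cfsg.Agent.H311.K547.Val_m3
import Cfsg.Agent.H69.OutGF
import Cfsg.Agent.S1070
import Cfsg.Agent.FastGrp
import Cfsg.Agent.Prune
set_option linter.all false

section
prune_inst 0x7f00000000000000000000000000000000000000000000000000000000000000000000000000000000000000000000000000000000000000000000000000000000000000000000000000000000000000003fffffffffffffffffffffffffffbeffbdffffffff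

-- part: H306/K547/J3Inv
section
set_option linter.all false
open scoped Cfsg.Agent.FastGrp

-- part: H306/K547/J3Fix
section
/-!
# S4547, row `J₃`: an outer automorphism fixes an element of order 17 (helper306)

* `exists_fixed` : the semilinear automorphism fixes `D(1) B(-1) C(1)`, of order 17;
* `tau_stable` : `τ` not inner: some `x` of order 17 with `τ x` conjugate to `x`;
* `tau_sq` : `τ²` is inner.
-/

set_option autoImplicit false

namespace Cfsg.Agent.H306.K547.JThree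

open Cfsg Cfsg.Spor Cfsg.Agent.J3.Core Cfsg.Agent.J3.Elts Cfsg.Agent.J3.Nineteen Cfsg.Agent.J3.Tab Cfsg.Agent.H55.JThree
open Cfsg.Agent.H55 Subgroup

universe u v

section fixed

variable {F : Type u} [Field F] {ω : F}

/-- the table of `D(1) B(-1) C(1)` -/
def tX : List ℕ := compT (tD (1, 0)) (compT (tB (2, 0)) tC)

theorem chk17 : beqL (cols (powT tX 17)) (cols (tS 0)) = true := by decide +kernel

theorem exists_fixed [Fintype F] (hF : Fintype.card F = 4) (H : Good ω) :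
    ∃ x : J3 F ω, orderOf x = 17 ∧ OutGen.centerQuot (phi hF H) x = x := by
  obtain ⟨G⟩ := exists_gens hF H
  obtain ⟨s, hs⟩ := exists_scalar H G
  let x : threeJ3 F ω := G.d (1, 0) * (G.b (2, 0) * G.c)
  have h2 : ((2, 0) : F9) ≠ 0 := by decide
  have hT : RepG ω tX x := by
    refine RepG.mul ?_ (RepG.mul ?_ ?_)
    · unfold RepG; rw [G.hd]; exact repD H _
    · unfold RepG; rw [G.hb _ h2]; exact repB H _ h2
    · unfold RepG; rw [G.hc]; exact repC H
  have h17 : x ^ 17 = 1 := (hT.pow H 17).ext (repG_one H) (beqL_eq chk17)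
  have hne : x ≠ 1 := by
    intro h
    have h1 : ∀ z : F9, (cols tX).getD (idx z) 0 = (cols (tS 0)).getD (idx z) 0 := fun z =>
      (h ▸ hT : RepG ω tX 1).cols_eq H (repG_one H) z
    have h3 := h1 (0, 1)
    revert h3
    decide +kernel
  have hp : Fact (Nat.Prime 17) := ⟨by norm_num⟩
  have hox : orderOf x = 17 := orderOf_eq_prime h17 hne
  have hfix : phi hF H x = x := by
    apply mat_injective
    rw [mat_phi]
    have e1 : mat ω x = j3D F ω (1, 0) * (j3B F (2, 0) * j3C F F9.one) := by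
      rw [map_mul, map_mul, G.hd, G.hb _ h2, G.hc]
    rw [e1, map_mul, map_mul, phiM_D, phiM_B, phiM_C]
    have c1 : cj (1, 0) = (1, 0) := by decide
    have c2 : cj (2, 0) = (2, 0) := by decide
    have c3 : cj F9.one = F9.one := by decide
    rw [c1, c2, c3]
  refine ⟨QuotientGroup.mk x, ?_, ?_⟩
  · refine orderOf_eq_prime ?_ ?_
    · rw [← QuotientGroup.mk_pow, h17]; rfl
    · intro h
      have h3 : x ∈ center (threeJ3 F ω) := (QuotientGroup.eq_one_iff x).1 h
      have h4 : orderOf x ∣ Nat.card (center (threeJ3 F ω)) := by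
        have := orderOf_dvd_natCard (⟨x, h3⟩ : center (threeJ3 F ω))
        rwa [Subgroup.orderOf_mk] at this
      rw [card_center hF H, hox] at h4
      norm_num at h4
  · rw [OutGen.centerQuot_mk, hfix]

end fixed

variable {K : Type u} [Group K]

/-- not inner automorphisms: a common coset -/
theorem exists_conj (h : IsoJ3 K) {α τ : MulAut K} (hα : ∀ k, α ≠ MulAut.conj k)
    (hτ : ∀ k, τ ≠ MulAut.conj k) : ∃ s : K, ∀ x, τ x = s * α x * s⁻¹ := by
  have hR : ∀ σ : MulAut K, (∀ k, σ ≠ MulAut.conj k) → σ ∉ (MulAut.conj : K →* MulAut K).range := by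
    rintro σ hσ ⟨k, hk⟩
    exact hσ k hk.symm
  rcases Cfsg.Agent.S2067.index_le K h with h1 | h1
  · exfalso
    rw [index_eq_one] at h1
    exact hR τ hτ (by rw [h1]; trivial)
  · have h2 : τ * α⁻¹ ∈ (MulAut.conj : K →* MulAut K).range := by
      rw [mul_mem_iff_of_index_two h1]
      constructor
      · intro h3; exact absurd h3 (hR τ hτ)
      · intro h3; exact absurd ((inv_mem_iff).1 h3) (hR α hα)
    obtain ⟨s, hs⟩ := h2
    refine ⟨s, fun x => ?_⟩
    have h3 : τ = MulAut.conj s * α := by rw [hs, inv_mul_cancel_right]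
    rw [h3]
    rfl

/-- **`τ²` is inner.** -/
theorem tau_sq (h : IsoJ3 K) (τ : MulAut K) : ∃ s : K, ∀ x, τ (τ x) = s * x * s⁻¹ := by
  have h2 : τ * τ ∈ (MulAut.conj : K →* MulAut K).range := by
    rcases Cfsg.Agent.S2067.index_le K h with h1 | h1
    · rw [index_eq_one] at h1
      rw [h1]; trivial
    · exact mul_self_mem_of_index_two h1 τ
  obtain ⟨s, hs⟩ := h2
  refine ⟨s, fun x => ?_⟩
  have h3 := congrArg (fun σ : MulAut K => σ x) hs
  exact h3.symm

/-- **An outer automorphism fixes the class of an element of order 17.** -/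
theorem tau_stable (h : IsoJ3 K) {τ : MulAut K} (hτ : ∀ k, τ ≠ MulAut.conj k) :
    ∃ x : K, orderOf x = 17 ∧ IsConj x (τ x) := by
  obtain ⟨F, _, _, ω, hF, hω, ⟨e⟩⟩ := id h
  have H := good_of_card hF hω
  obtain ⟨y, hy, hfix⟩ := exists_fixed hF H
  let β : MulAut (J3 F ω) := OutGen.centerQuot (phi hF H)
  have hβ : ∀ k, β ≠ MulAut.conj k :=
    OutGen.centerQuot_not_inner (hom_center hF H) (phi_not_inner hF H)
  let α : MulAut K := (e.trans β).trans e.symm
  have hα : ∀ k, α ≠ MulAut.conj k := by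
    intro k hk
    apply hβ (e k)
    ext z
    have h1 := congrArg (fun σ : MulAut K => e (σ (e.symm z))) hk
    have h2 : e (α (e.symm z)) = β z := by
      show e (e.symm (β (e (e.symm z)))) = β z
      rw [e.apply_symm_apply, e.apply_symm_apply]
    have h3 : e ((MulAut.conj k) (e.symm z)) = e k * z * (e k)⁻¹ := by
      rw [MulAut.conj_apply, map_mul, map_mul, map_inv, e.apply_symm_apply]
    rw [h2, h3] at h1
    exact h1
  obtain ⟨s, hs⟩ := exists_conj h hα hτ
  refine ⟨e.symm y, ?_, ?_⟩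
  · rw [← hy]
    exact orderOf_injective e.symm.toMonoidHom e.symm.injective y
  · refine isConj_iff.2 ⟨s, ?_⟩
    rw [hs]
    congr 2
    show e.symm y = e.symm (β (e (e.symm y)))
    rw [e.apply_symm_apply]
    congr 1
    exact hfix.symm

end Cfsg.Agent.H306.K547.JThree
end

-- part: H306/K547/Par
section
/-!
# S4547, the parity lemma (PAR) for the invariant good characters (helper306)

`τ` an automorphism of 2-power order modulo inner automorphisms, `x` of odd order, `τ x` conjugate to `x`: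

* `sum_inv` : the sum of `χ x` over the `τ`-invariant good characters is zero modulo `M`;
* `even_inv` : the number of `τ`-invariant good characters is even;
* `gInv3_of_two` : `χ` good and `τ`-invariant, `χ ≠ 1`, `χ x = n`, `n` even: `GInv3 τ`;
* `exists_inv` : there is a `τ`-invariant good `χ ≠ 1`; if `GInv3 τ` fails it is unique and `χ x = 1` modulo `M`.
-/

set_option autoImplicit false

open scoped ComplexConjugate
open Cfsg Cfsg.Agent.Characters.Core Cfsg.Agent.H618.Sigma Cfsg.Agent.Blocks.Local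

namespace Cfsg.Agent.H306.K547

open Cfsg.Agent.H601.K4 Cfsg.Agent.H821.K547

universe u

variable {S : Type u} [Group S]

/-- the character `χ ∘ τ` -/
def tw (τ : MulAut S) (χ : IrrCharacter S) : IrrCharacter S :=
  ⟨fun s => (χ : S → ℂ) (τ s), isIrr_comp τ.toMonoidHom τ.surjective χ.2⟩

theorem tw_apply (τ : MulAut S) (χ : IrrCharacter S) (s : S) : (tw τ χ : S → ℂ) s = (χ : S → ℂ) (τ s) := rfl

theorem tw_conj (s : S) {τ : MulAut S} (h : ∀ x, τ x = s * x * s⁻¹) (χ : IrrCharacter S) : tw τ χ = χ := by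
  apply Subtype.ext
  funext x
  rw [tw_apply, h, isIrr_isClassFunction χ.2]

/-- the trivial character is good -/
theorem good_one [Finite S] : Good (1 : S → ℂ) := by
  have h1 : IsIrrCharacter S (1 : S → ℂ) := isIrr_one
  have h2 : OddIrr (1 : S → ℂ) := by
    refine ⟨h1, ?_⟩
    have h3 : charDegree (1 : S → ℂ) = 1 := by
      rw [Cfsg.Agent.Blocks.Basic.charDegree_of_eq (n := 1) (by simp)]
    rw [h3]
    norm_num
  exact ⟨h2, fun _ _ _ _ => rfl, InB0.of_real h2 (fun _ => by simp)⟩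

end Cfsg.Agent.H306.K547
end

-- part: H306/K547/J3Inv
section
/-!
# S4547, row `J₃`: three invariant good characters (helper306)

`gInv3` : the trivial character and the two characters of degree 1215 are invariant under all automorphisms. They agree at
the elements of order prime to 17; an outer automorphism fixes the class of an element of order 17.
-/

set_option autoImplicit false

namespace Cfsg.Agent.H306.K547.JThree

open Cfsg Cfsg.Agent.Characters.Core Cfsg.Agent.H686.CharKit Subgroup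
open Cfsg.Agent.H601.K4 Cfsg.Agent.H821.K547 Cfsg.Agent.M23Order.Base

universe u

variable {K : Type u} [Group K]

/-- the characters of degree 1215 agree at the elements of order prime to 17 -/
theorem agree [Finite K] (h : Spor.IsoJ3 K) {α β : IrrCharacter K} (hα : (α : K → ℂ) 1 = (1215 : ℕ))
    (hβ : (β : K → ℂ) 1 = (1215 : ℕ)) {g : K} (hg : ¬ 17 ∣ orderOf g) : (α : K → ℂ) g = (β : K → ℂ) g := by
  have hcard := (H898.J3Cent.base h).2.1
  have f17 : Fact (Nat.Prime 17) := ⟨by norm_num⟩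
  obtain ⟨P, hP, ⟨D⟩⟩ := H417.BlockCount.exists_SC (G := K) 17 (by norm_num) (by rw [hcard]; norm_num)
    (by rw [hcard]; norm_num) (fun y hy => (H898.J3Cent.seventeen h hy).1) (e := 8) (t := 2)
    (by rw [hcard]) (by norm_num)
  have key : ∀ θ : IrrCharacter K, (θ : K → ℂ) 1 = (1215 : ℕ) → θ ∈ D.X := by
    intro θ hθ
    have hd : dg θ = 1215 := by
      have h1 := dg_eq θ
      rw [hθ] at h1
      exact_mod_cast h1.symm
    by_contra hX
    by_cases hN : θ ∈ D.NE
    · rcases H417.BlockCount.mod_NE' D (by norm_num) hN with h1 | h1 <;> rw [hd] at h1 <;> norm_num at h1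
    · have h1 := H417.BlockCount.mod_out' D hN hX
      rw [hd] at h1
      norm_num at h1
  have h1 := D.rel α (key α hα) g hg
  rw [D.rel β (key β hβ) g hg] at h1
  rcases D.d_mem with h2 | h2
  · rw [h2] at h1
    simpa using h1.symm
  · rw [h2] at h1
    simpa using h1.symm

/-- the elements of order divisible by 17 -/
theorem order_seventeen [Finite K] (h : Spor.IsoJ3 K) {g : K} (hg : 17 ∣ orderOf g) : orderOf g = 17 := by
  obtain ⟨m, hm⟩ := hg
  have hpos : 0 < orderOf g := orderOf_pos g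
  have h1 : orderOf (g ^ m) = 17 := by
    rw [orderOf_pow_of_dvd (by rintro rfl; omega) ⟨17, by rw [hm, mul_comm]⟩, hm,
      Nat.mul_div_cancel _ (by omega)]
  have h2 := (H898.J3Cent.seventeen h h1).1
  have h3 : g ∈ centralizer ({g ^ m} : Set K) := by
    rw [mem_centralizer_singleton_iff, ← pow_succ, ← pow_succ']
  have h4 : orderOf g ∣ 17 := by
    have h5 := orderOf_dvd_natCard (⟨g, h3⟩ : centralizer ({g ^ m} : Set K))
    rwa [Subgroup.orderOf_mk, h2] at h5
  exact Nat.dvd_antisymm h4 ⟨m, hm⟩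

/-- the elements of order 17 are conjugate to powers of `x` -/
theorem conj_pow [Finite K] (h : Spor.IsoJ3 K) {x y : K} (hx : orderOf x = 17) (hy : orderOf y = 17) :
    ∃ (k : ℕ) (c : K), y = c * x ^ k * c⁻¹ := by
  have hcard := (H898.J3Cent.base h).2.1
  have f17 : Fact (Nat.Prime 17) := ⟨by norm_num⟩
  have hS : ∀ z : K, orderOf z = 17 → Nat.card (zpowers z) = 17 ^ (Nat.card K).factorization 17 := by
    intro z hz
    rw [Nat.card_zpowers, hz, hcard]
    have : (50232960 : ℕ).factorization 17 = 1 := by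
      rw [show (50232960 : ℕ) = 17 * 2954880 by norm_num, Nat.factorization_mul (by norm_num) (by norm_num)]
      rw [Finsupp.add_apply, Nat.Prime.factorization_self (by norm_num),
        Nat.factorization_eq_zero_of_not_dvd (by norm_num)]
    rw [this, pow_one]
  let P : Sylow 17 K := Sylow.ofCard (zpowers x) (hS x hx)
  let Q : Sylow 17 K := Sylow.ofCard (zpowers y) (hS y hy)
  obtain ⟨c, hc⟩ := MulAction.exists_smul_eq K P Q
  have h1 : y ∈ (Q : Subgroup K) := mem_zpowers y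
  rw [← hc, Sylow.coe_subgroup_smul] at h1
  obtain ⟨z, hz, hzy⟩ := h1
  have hz' : z ∈ zpowers x := hz
  obtain ⟨k, hk⟩ := (mem_powers_iff_mem_zpowers.2 hz' : z ∈ Submonoid.powers x)
  have hk : x ^ k = z := hk
  refine ⟨k, c, ?_⟩
  rw [hk]
  exact hzy.symm

/-- **The characters of degree 1215 are invariant.** -/
theorem inv_1215 [Finite K] (h : Spor.IsoJ3 K) {α β : IrrCharacter K} (hαβ : α ≠ β) (hα : (α : K → ℂ) 1 = (1215 : ℕ))
    (hβ : (β : K → ℂ) 1 = (1215 : ℕ)) (hall : ∀ θ : IrrCharacter K, (θ : K → ℂ) 1 = (1215 : ℕ) → θ = α ∨ θ = β)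
    (τ : MulAut K) : tw τ α = α := by
  rcases hall (tw τ α) (by rw [tw_apply, map_one, hα]) with h1 | h1
  · exact h1
  exfalso
  -- `τ` is not inner
  have hτ : ∀ k, τ ≠ MulAut.conj k := by
    intro k hk
    have h2 : tw τ α = α := tw_conj k (fun x => by rw [hk, MulAut.conj_apply]) α
    exact hαβ (h2.symm.trans h1)
  obtain ⟨x, hx, hxc⟩ := tau_stable h hτ
  obtain ⟨c, hc⟩ := isConj_iff.1 hxc
  have hcl : ∀ a b : K, (α : K → ℂ) (b * a * b⁻¹) = (α : K → ℂ) a := fun a b => isIrr_isClassFunction α.2 a b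
  -- the elements of order 17
  have h17 : ∀ y : K, orderOf y = 17 → (α : K → ℂ) y = (β : K → ℂ) y := by
    intro y hy
    obtain ⟨k, d, hd⟩ := conj_pow h hx hy
    have h2 : (β : K → ℂ) y = (α : K → ℂ) (τ y) := by rw [← h1]; rfl
    rw [h2, hd, map_mul, map_mul, map_inv, map_pow, hcl, hcl, ← hc, conj_pow' c x k, hcl]
  apply hαβ
  apply Subtype.ext
  funext g
  by_cases hg : 17 ∣ orderOf g
  · exact h17 g (order_seventeen h hg)
  · exact agree h hα hβ hg
where
  conj_pow' (c x : K) (k : ℕ) : (c * x * c⁻¹) ^ k = c * x ^ k * c⁻¹ := _root_.conj_pow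

/-- **Three invariant good characters of `J₃`.** -/
theorem gInv3 (h : Spor.IsoJ3 K) (τ : MulAut K) : GInv3 τ := by
  have := H90.K4.JThree.finite h
  obtain ⟨α, β, hαβ, hrα, hrβ, hdα, hdβ, hall⟩ := H90.K4.JThree.exists_two h
  have good : ∀ (χ : IrrCharacter K) (n : ℕ), (∀ g : K, ((χ : K → ℂ) g).im = 0) → (χ : K → ℂ) 1 = n → Odd n →
      Good (χ : K → ℂ) := fun χ n hr hd ho =>
    ⟨H90.K4.JThree.oddIrr_of hd ho, H90.K4.JThree.sigFix h χ.2, InB0.of_real (H90.K4.JThree.oddIrr_of hd ho) hr⟩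
  have iα := inv_1215 h hαβ hdα hdβ hall τ
  have iβ := inv_1215 h hαβ.symm hdβ hdα (fun θ hθ => (hall θ hθ).symm) τ
  have hne : ∀ χ : IrrCharacter K, (χ : K → ℂ) 1 = (1215 : ℕ) → (1 : K → ℂ) ≠ (χ : K → ℂ) := by
    intro χ hχ h1
    rw [← h1] at hχ
    norm_num at hχ
  have hαβ' : (α : K → ℂ) ≠ (β : K → ℂ) := fun h => hαβ (Subtype.ext h)
  refine ⟨![(1 : K → ℂ), α, β], ?_, ?_⟩
  · intro i j hij
    have h1 := hne α hdα
    have h2 := hne β hdβ
    fin_cases i <;> fin_cases j <;>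
      first | rfl | (exfalso; revert hij; simp [h1, h2, h1.symm, h2.symm, hαβ', hαβ'.symm])
  · intro i
    fin_cases i
    · exact ⟨good_one, fun _ => rfl⟩
    · exact ⟨good α 1215 hrα hdα (by decide), fun x => congrArg (fun χ : IrrCharacter K => (χ : K → ℂ) x) iα⟩
    · exact ⟨good β 1215 hrβ hdβ (by decide), fun x => congrArg (fun χ : IrrCharacter K => (χ : K → ℂ) x) iβ⟩

end Cfsg.Agent.H306.K547.JThree
end
end

-- part: H951/K547/FrExc
section
set_option linter.all false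
open scoped Cfsg.Agent.FastGrp

-- part: H951/K547/Fr
section
/-!
# S4547: outer 2-automorphisms of groups with a frame of commuting rank one groups (helper951)

* `rk2_of_involutions` : a 2-group of order at least four generated by involutions is not cyclic;
* `PM.rp` : automorphisms in `PM` act trivially on `N / T`;
* `exists_MF_hom` : the homomorphism `MF R β P → P`;
* `ExtD3 S` : `D3 (AutExt τ)` for all outer 2-automorphisms; `extD3_congr`;
* `extD3_of_frame` : the row.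
-/

set_option autoImplicit false
set_option linter.unusedSectionVars false

namespace Cfsg.Agent.H951.K547

open Cfsg.Agent.H821.K547

universe u v

/-! ### `ExtD3` -/

/-- the rows of all outer 2-automorphisms -/
def ExtD3 (S : Type u) [Group S] : Prop := ∀ τ : MulAut S, TwoPow τ → ¬ IsInn τ → D3 (AutExt τ)

theorem extD3_congr {S : Type u} {Y : Type v} [Group S] [Group Y] [Finite S] (e : S ≃* Y) (h : ExtD3 Y) : ExtD3 S := by
  intro τ h2 hni
  have hfY : Finite Y := Finite.of_equiv S e.toEquiv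
  let f : MulAut S ≃* MulAut Y := MulAut.congr e
  have hf : ∀ (σ : MulAut S) (y : Y), f σ y = e (σ (e.symm y)) := fun σ y => rfl
  have hpow : ∀ (σ : MulAut S) (n : ℕ), (f σ) ^ n = f (σ ^ n) := fun σ n => (map_pow f σ n).symm
  have h1 : TwoPow (f τ) := by
    obtain ⟨k, s, hs⟩ := h2
    refine ⟨k, e s, fun y => ?_⟩
    rw [hpow, hf, hs, map_mul, map_mul, map_inv, MulEquiv.apply_symm_apply]
  have h3 : ¬ IsInn (f τ) := by
    rintro ⟨y, hy⟩
    apply hni
    refine ⟨e.symm y, fun x => ?_⟩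
    have h4 := hy (e x)
    rw [hf, MulEquiv.symm_apply_apply] at h4
    apply e.injective
    rw [h4, map_mul, map_mul, map_inv, MulEquiv.apply_symm_apply]
  have h4 := h (f τ) h1 h3
  have h5 : AutExt (f τ) = (AutExt τ).map f.toMonoidHom := by
    unfold AutExt
    rw [Subgroup.map_sup, MonoidHom.map_zpowers]
    congr 1
    ext x
    constructor
    · rintro ⟨y, rfl⟩
      refine ⟨MulAut.conj (e.symm y), ⟨_, rfl⟩, ?_⟩
      ext z
      show e (e.symm y * e.symm z * (e.symm y)⁻¹) = y * z * y⁻¹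
      rw [map_mul, map_mul, map_inv, MulEquiv.apply_symm_apply, MulEquiv.apply_symm_apply]
    · rintro ⟨_, ⟨y, rfl⟩, rfl⟩
      refine ⟨e y, ?_⟩
      ext z
      show e y * z * (e y)⁻¹ = e (y * e.symm z * y⁻¹)
      rw [map_mul, map_mul, map_inv, MulEquiv.apply_symm_apply]
  rw [h5] at h4
  exact Cfsg.Agent.H5.K547.d3_congr ((AutExt τ).equivMapOfInjective f.toMonoidHom f.injective) h4

/-! ### 2-groups generated by involutions -/

theorem rk2_of_involutions {P : Type u} [Group P] [Finite P] (hP : IsPGroup 2 P) (h4 : 4 ≤ Nat.card P) {Γ : Set P}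
    (hΓ : Subgroup.closure Γ = ⊤) (h2 : ∀ g ∈ Γ, g ^ 2 = 1) : Rk 2 P := by
  classical
  obtain ⟨m, hm⟩ := hP.exists_card_eq
  have hm2 : 2 ≤ m := by
    by_contra hcon
    have h5 : 2 ^ m ≤ 2 ^ 1 := Nat.pow_le_pow_right (by norm_num) (by omega)
    rw [hm] at h4
    omega
  by_contra hrk
  -- all squares lie in `N`, the index of `N` is at most 2
  let N : Subgroup P := Sq (⊤ : Subgroup P)
  have hN : ∀ x : P, x ^ 2 ∈ N := fun x => sq_mem_Sq (Subgroup.mem_top x)
  have hi : ¬ 2 ^ 2 ≤ N.index := fun h => hrk (rk_of_sq hN h)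
  have hsub : ∀ K : Subgroup P, Nat.card K = 2 ^ (m - 1) → K = N := by
    intro K hK
    have hKi : K.index = 2 := by
      have h5 := K.card_mul_index
      rw [hK, hm] at h5
      have h6 : 2 ^ m = 2 ^ (m - 1) * 2 := by rw [← pow_succ, show m - 1 + 1 = m by omega]
      rw [h6] at h5
      exact Nat.eq_of_mul_eq_mul_left (pow_pos (by norm_num) _) h5
    have hNK : N ≤ K := by
      show Sq (⊤ : Subgroup P) ≤ K
      rw [Sq_le_iff]
      intro x _
      exact Subgroup.sq_mem_of_index_two hKi x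
    have h7 := Subgroup.relIndex_mul_index hNK
    rw [hKi] at h7
    have h8 : N.relIndex K = 1 := by
      have h9 : N.relIndex K ≠ 0 := Subgroup.FiniteIndex.index_ne_zero
      omega
    exact le_antisymm (Subgroup.relIndex_eq_one.1 h8) hNK
  have hgen : ∀ g ∈ Γ, g ∈ N := by
    intro g hg
    obtain ⟨j, hj⟩ := (hP.to_subgroup (Subgroup.zpowers g)).exists_card_eq
    have hj1 : j ≤ m - 1 := by
      by_contra hcon
      have h5 : Nat.card (Subgroup.zpowers g) ≤ 2 := by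
        rw [Nat.card_zpowers]
        exact orderOf_le_of_pow_eq_one (by norm_num) (h2 g hg)
      have h6 : 2 ^ 2 ≤ 2 ^ j := Nat.pow_le_pow_right (by norm_num) (by omega)
      rw [← hj] at h6
      omega
    have : Fact (Nat.Prime 2) := ⟨Nat.prime_two⟩
    obtain ⟨K, hK, hgK⟩ := Sylow.exists_subgroup_card_pow_prime_le 2
      (show 2 ^ (m - 1) ∣ Nat.card P by rw [hm]; exact pow_dvd_pow 2 (by omega)) (Subgroup.zpowers g) hj hj1
    rw [← hsub K hK]
    exact hgK (Subgroup.mem_zpowers g)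
  have htop : N = ⊤ := by
    rw [eq_top_iff, ← hΓ, Subgroup.closure_le]
    exact hgen
  have : Fact (Nat.Prime 2) := ⟨Nat.prime_two⟩
  obtain ⟨K, hK⟩ := Sylow.exists_subgroup_card_pow_prime 2
      (show 2 ^ (m - 1) ∣ Nat.card P by rw [hm]; exact pow_dvd_pow 2 (by omega))
  have hKN := hsub K hK
  rw [htop] at hKN
  rw [hKN, Subgroup.card_top, hm] at hK
  have h6 : 2 ^ m = 2 ^ (m - 1) * 2 := by rw [← pow_succ, show m - 1 + 1 = m by omega]
  have h7 : 0 < 2 ^ (m - 1) := pow_pos (by norm_num) _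
  omega

theorem sylow_rk2_of_involutions {P : Type u} [Group P] [Finite P] (hP : IsPGroup 2 P) (h4 : 4 ≤ Nat.card P) {Γ : Set P}
    (hΓ : Subgroup.closure Γ = ⊤) (h2 : ∀ g ∈ Γ, g ^ 2 = 1) (Q : Sylow 2 P) : Rk 2 Q := by
  have h : (Q : Subgroup P) = ⊤ :=
    Q.is_maximal' (Q := ⊤) (hP.of_injective (Subgroup.subtype _) (Subgroup.subtype_injective _)) le_top |>.symm
  obtain ⟨f, hf⟩ := rk2_of_involutions hP h4 hΓ h2
  refine ⟨f.comp (Q : Subgroup P).subtype, fun x => ?_⟩
  obtain ⟨y, rfl⟩ := hf x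
  refine ⟨⟨y, ?_⟩, rfl⟩
  show y ∈ (Q : Subgroup P)
  rw [h]
  exact Subgroup.mem_top y

/-! ### frames -/

section frame

open CoxeterSystem Cfsg.Agent.ChevalleyStructure.CoxeterGeom Cfsg.Agent.Tits.Roots Cfsg.Agent.Tits.Core
  Cfsg.Agent.Nodes.Reps Cfsg.Agent.Nodes.BNOf Cfsg.Agent.Nodes.Bruhat Cfsg.Agent.Nodes.OppDec
  Cfsg.Agent.KFacts.RgdAut Cfsg.Agent.KFacts.RgdDiag Cfsg.Agent.Nodes.FreeTorus
  Cfsg.Agent.ClosedExc Cfsg.Agent.ClosedExc.Rk Cfsg.Agent.ClosedExc.Prod Cfsg.Agent.ClosedExc.Frame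
  Cfsg.Agent.H55.Sd Cfsg.Agent.H491.Sd

variable {I W Y : Type*} [Fintype I] [DecidableEq I] [Group W] [Group Y] {M : CoxeterMatrix I}
  {cs : CoxeterSystem M W} {C : I → I → ℤ} {h : IsCartan M C} {p : ℕ} {T : Subgroup Y} {n : I → Y}
  {X : (I → ℤ) → Subgroup Y} {ι : Type*}
variable (R : RGD cs h p T n X)

include R

/-- automorphisms in `PM` act trivially on `N / T` -/
theorem PM.rp [Finite W] (hG : GG cs h T X = ⊤) (hno : NoFix cs h T X) {δ : MulAut Y} (hδ : PM cs h T X δ) {w : W} {g : Y}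
    (hg : Rp cs R.nsys w g) : Rp cs R.nsys w (δ g) := by
  have hn : δ g ∈ Subgroup.normalizer (T : Set Y) := by
    rw [Subgroup.mem_normalizer_iff]
    intro t
    have h1 := Subgroup.mem_normalizer_iff.1 hg.mem_normalizer (δ⁻¹ t)
    have h2 : δ (g * δ⁻¹ t * g⁻¹) = δ g * t * (δ g)⁻¹ := by
      rw [map_mul, map_mul, map_inv, MulAut.apply_inv_self]
    rw [← h2, hδ.tor, ← h1]
    exact (hδ.tor.inv t).symm
  obtain ⟨w', hw'⟩ := exists_rp_of_norm R hG hno hn
  suffices hww : w' = w by rwa [hww] at hw'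
  have h3 : ∀ x, IsRoot cs h x → rep cs h w' x = rep cs h w x := by
    intro x hx
    rcases hδ.root with h1 | h1
    · apply X_injective R (hx.act _) (hx.act _)
      rw [← R.conj_rp hw' hx, ← map_eq_of_iff (h1 _ (hx.act w)), ← R.conj_rp hg hx, map_cj,
        map_eq_of_iff (h1 x hx)]
    · have h4 : rep cs h w' (-x) = -rep cs h w x := by
        apply X_injective R (hx.neg.act _) (hx.act _).neg
        rw [← R.conj_rp hw' hx.neg, ← map_eq_of_iff (h1 _ (hx.act w)), ← R.conj_rp hg hx, map_cj,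
          map_eq_of_iff (h1 x hx)]
      rw [map_neg, neg_inj] at h4
      exact h4
  have h5 : w⁻¹ * w' = 1 := by
    refine eq_one_of_fix cs h _ fun i => ?_
    show rep cs h (w⁻¹ * w') (sr i) = sr i
    rw [rep_mul_apply, h3 _ (isRoot_sr cs h i), rep_inv_apply]
  exact (inv_mul_eq_one.1 h5).symm

variable [Fintype ι] [Finite W] [Finite Y] {β : ι → (I → ℤ)} {P : Subgroup W}

/-- **The homomorphism of the frame group onto the group of permutations.** -/
theorem exists_MF_hom (F : FrameData cs h X β P) (hSL : ∀ i, IsSL (LL X (sr i))) :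
    ∃ f : ↥(MF R β P) →* ↥P, Function.Surjective f ∧ ∀ (m : ↥(MF R β P)) (y g : Y) (w : P),
      y ∈ (⨆ a, LL X (β a) : Subgroup Y) → Rp cs R.nsys (w : W) g → (m : Y) = y * g → f m = w := by
  classical
  have hSL' : ∀ x, IsRoot cs h x → IsSL (LL X x) := fun x hx => isSL_of_root R hSL hx
  have hn := NP_le_normalizer R F
  have hex : ∀ m : ↥(MF R β P), ∃ (w : P) (y g : Y), y ∈ (⨆ a, LL X (β a) : Subgroup Y) ∧ Rp cs R.nsys (w : W) g ∧
      (m : Y) = y * g := by
    intro m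
    have hm : (m : Y) ∈ (⨆ a, LL X (β a) : Subgroup Y) ⊔ NP R P := m.2
    rw [← SetLike.mem_coe, Subgroup.coe_mul_of_right_le_normalizer_left _ _ hn, Set.mem_mul] at hm
    obtain ⟨y, hy, g, ⟨w, hw, hg⟩, e⟩ := hm
    exact ⟨⟨w, hw⟩, y, g, hy, hg, e.symm⟩
  have huniq : ∀ (w w' : P) (y g y' g' : Y), y ∈ (⨆ a, LL X (β a) : Subgroup Y) → y' ∈ (⨆ a, LL X (β a) : Subgroup Y) →
      Rp cs R.nsys (w : W) g → Rp cs R.nsys (w' : W) g' → y * g = y' * g' → w = w' := by
    intro w w' y g y' g' hy hy' hg hg' e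
    have h1 : g' * g⁻¹ = y'⁻¹ * y := by
      have h2 : g' = y'⁻¹ * (y * g) := by rw [e]; group
      rw [h2]; group
    have h2 : g' * g⁻¹ ∈ (⨆ a, LL X (β a) : Subgroup Y) := by
      rw [h1]
      exact mul_mem (inv_mem hy') hy
    have h3 : Rp cs R.nsys ((w' : W) * (w : W)⁻¹) (g' * g⁻¹) := hg'.mul hg.inv
    have h4 : g' * g⁻¹ ∈ T := by
      refine frame_kernel R F hSL' (mul_mem w'.2 (inv_mem w.2)) h3 (one_mem _) fun a => ?_
      rw [one_mul]
      exact frame_cj_E F h2 a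
    have h5 := rp_eq R h3 (rp_of_mem h4)
    exact Subtype.ext (mul_inv_eq_one.1 h5).symm
  choose fw fy fg hfy hfg hfm using hex
  have hsp : ∀ (m : ↥(MF R β P)) (y g : Y) (w : P),
      y ∈ (⨆ a, LL X (β a) : Subgroup Y) → Rp cs R.nsys (w : W) g → (m : Y) = y * g → fw m = w := by
    intro m y g w hy hg e
    exact huniq _ _ _ _ _ _ (hfy m) hy (hfg m) hg ((hfm m).symm.trans e)
  refine ⟨{ toFun := fw, map_one' := ?_, map_mul' := ?_ }, ?_, hsp⟩
  · exact hsp 1 1 1 1 (one_mem _) rp_one (by rw [one_mul]; rfl)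
  · intro a b
    refine hsp (a * b) (fy a * (fg a * fy b * (fg a)⁻¹)) (fg a * fg b) (fw a * fw b) ?_ ((hfg a).mul (hfg b)) ?_
    · refine mul_mem (hfy a) ?_
      have h6 : fg a ∈ Subgroup.normalizer ((⨆ a, LL X (β a) : Subgroup Y) : Set Y) := hn ⟨_, (fw a).2, hfg a⟩
      exact (Subgroup.mem_normalizer_iff.1 h6 _).1 (hfy b)
    · rw [Subgroup.coe_mul, hfm a, hfm b]
      group
  · intro w
    obtain ⟨g, hg⟩ := exists_rp cs R.nsys (w : W)
    exact ⟨⟨g, Subgroup.mem_sup_right ⟨w, w.2, hg⟩⟩, hsp _ 1 g w (one_mem _) hg (by rw [one_mul])⟩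

/-- **The row of a group with a frame.** -/
theorem extD3_of_frame (hc : Subgroup.center Y = ⊥) (hp : commutator Y = ⊤) (hG : GG cs h T X = ⊤)
    (hno : NoFix cs h T X) (F : FrameData cs h X β P) (hSL : ∀ i, IsSL (LL X (sr i))) (hodd : Odd (MF R β P).index)
    (hP : ∀ Q : Sylow 2 P, Rk 2 Q) (hpm : ∀ τ : MulAut Y, ∃ s : Y, PM cs h T X (MulAut.conj s * τ)) : ExtD3 Y := by
  intro τ h2 hni
  obtain ⟨s, hs⟩ := hpm τ
  obtain ⟨f, hf, hfm⟩ := exists_MF_hom R F hSL
  have hn := NP_le_normalizer R F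
  have hE : (⨆ a, LL X (β a) : Subgroup Y).map (MulAut.conj s * τ).toMonoidHom = ⨆ a, LL X (β a) := by
    rw [Subgroup.map_iSup]
    exact iSup_congr fun a => hs.map_LL (F.root a)
  have hM := hs.map_MF R hG hno F.root P
  refine gen_inner hc hp τ h2 hni s (MF R β P) ?_ ?_ f hf 1 ?_ hP
  · rw [← even_iff_two_dvd, Nat.not_even_iff_odd]
    exact hodd
  · intro x hx
    have h1 : (MulAut.conj s * τ) x ∈ (MF R β P).map (MulAut.conj s * τ).toMonoidHom := ⟨x, hx, rfl⟩
    rwa [hM] at h1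
  · intro m m' e
    rw [inv_one, mul_one, one_mul]
    have hm : (m : Y) ∈ (⨆ a, LL X (β a) : Subgroup Y) ⊔ NP R P := m.2
    rw [← SetLike.mem_coe, Subgroup.coe_mul_of_right_le_normalizer_left _ _ hn, Set.mem_mul] at hm
    obtain ⟨y, hy, g, ⟨w, hw, hg⟩, e'⟩ := hm
    rw [hfm m y g ⟨w, hw⟩ hy hg e'.symm]
    refine hfm m' ((MulAut.conj s * τ) y) ((MulAut.conj s * τ) g) ⟨w, hw⟩ ?_ (PM.rp R hG hno hs hg) ?_
    · rw [← hE]
      exact ⟨y, hy, rfl⟩
    · rw [e, ← e', map_mul]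

end frame

end Cfsg.Agent.H951.K547
end

-- part: H951/K547/FrExc
section
/-!
# S4547: outer 2-automorphisms of `F₄(q)`, `E₆(q)`, `E₇(q)`, `E₈(q)`, `²E₆(q)`, `q` odd (helper951)

* `extD3_f4`, `extD3_e6`, `extD3_e7`, `extD3_e8`, `extD3_twE6`.
-/

set_option autoImplicit false
set_option linter.unusedSectionVars false
set_option maxRecDepth 100000

namespace Cfsg.Agent.H951.K547

open CoxeterSystem Cfsg Cfsg.Lie Cfsg.Agent.ChevalleyStructure Cfsg.Agent.ChevalleyStructure.CoxeterGeom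
  Cfsg.Agent.ChevalleyStructure.Elts Cfsg.Agent.Tits.Roots Cfsg.Agent.Nodes.Reps Cfsg.Agent.Nodes.BNOf
  Cfsg.Agent.Nodes.Bruhat Cfsg.Agent.Nodes.RGDChev Cfsg.Agent.ClosedExc Cfsg.Agent.ClosedExc.Frame
  Cfsg.Agent.ClosedExc.WFr Cfsg.Agent.ClosedExc.Chev Cfsg.Agent.ChevalleyStructure.NPerm
  Cfsg.Agent.ChevalleyStructure.CoxeterGeomTypes
open Cfsg.Agent.Nodes Cfsg.Agent.ClosedExc.Families
open Cfsg.Agent.Nodes.FreeTorus (LL)
open Cfsg.Agent.KFacts.RgdAut Cfsg.Agent.KFacts.RgdDiag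
open Cfsg.Agent.H491.Sd Cfsg.Agent.H55.Sd Cfsg.Agent.H775.Sd.ChevElem Cfsg.Agent.H491.Sd.FrInst
open Cfsg.Agent.H821.K547

universe u v

/-! ### the group of permutations of a certificate -/

section cert

variable {l : ℕ} {W : Type*} [Group W] {M : CoxeterMatrix (Fin l)} (cs : CoxeterSystem M W)
  {C : Fin l → Fin l → ℤ} (h : IsCartan M C) {k N : ℕ} {c : Cert}

include h

theorem gm_sq (hA : IsTab C c.AL) (hc : Ok l k N c) : ∀ w ∈ Gm cs c, w ^ 2 = 1 := by
  have hRel : ∀ g ∈ c.G, _root_.Cfsg.Agent.ClosedExc.WFr.Rel cs h c.T (wd cs (fw g.1)) g.2 := by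
    intro g hg
    refine ⟨(hc.gp g hg).1, (hc.gp g hg).2, fun a ha => ?_⟩
    rw [rep_wd cs h hA (hc.Tl _ (by rw [List.getD_eq_getElem _ _ ha]; exact List.getElem_mem _)), hc.ga g hg a ha]
  rintro _ ⟨g, hg, rfl⟩
  have h1 := (hRel g hg).mul (hRel g hg)
  rw [hc.gi g hg] at h1
  rw [pow_two]
  exact h1.unique hc.span Rel.one

theorem rk2_cert [Finite W] (hA : IsTab C c.AL) {s : ℕ} (hc : Ok l k (2 ^ s) c) (hs : 2 ≤ s)
    (Q : Sylow 2 ↥(Subgroup.closure (Gm cs c))) : Rk 2 Q := by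
  have hcard := (wframe' cs h hA hc).2.2.2
  refine sylow_rk2_of_involutions (IsPGroup.of_card hcard) ?_ Subgroup.closure_closure_coe_preimage ?_ Q
  · rw [hcard]
    calc 4 = 2 ^ 2 := by norm_num
      _ ≤ 2 ^ s := Nat.pow_le_pow_right (by norm_num) hs
  · intro g hg
    apply Subtype.ext
    exact gm_sq cs h hA hc g hg

end cert

/-! ### no diagram symmetries -/

theorem inv_step {l : ℕ} {M : CoxeterMatrix (Fin l)} {σ : Equiv.Perm (Fin l)}
    (hσ : ∀ i j, M (σ i) (σ j) = M i j) {g g' : Fin l → ℕ} (hg : ∀ i, g (σ i) = g i)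
    (h : ∀ i, g' i = ∑ j, if M i j = 2 ∨ M i j = 1 then 0 else g j) (i : Fin l) : g' (σ i) = g' i := by
  rw [h, h, ← Equiv.sum_comp σ]
  refine Finset.sum_congr rfl fun j _ => ?_
  rw [hσ, hg]

theorem sym_one {l : ℕ} {g : Fin l → ℕ} {σ : Equiv.Perm (Fin l)}
    (hg : ∀ i, g (σ i) = g i) (hf : ∀ i j, g i = g j → i = j) : σ = 1 := by
  ext i
  rw [Equiv.Perm.one_apply, hf _ _ (hg i)]

theorem sym_E7 (σ : Equiv.Perm (Fin 7)) (hσ : ∀ i j, CoxeterMatrix.E₇ (σ i) (σ j) = CoxeterMatrix.E₇ i j) :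
    σ = 1 := by
  have h1 : ∀ i, (![1, 1, 2, 3, 2, 2, 1] : Fin 7 → ℕ) (σ i) = (![1, 1, 2, 3, 2, 2, 1] : Fin 7 → ℕ) i :=
    inv_step hσ (g := fun _ => 1) (fun _ => rfl) (by decide +kernel)
  have h2 : ∀ i, (![2, 3, 4, 5, 5, 3, 2] : Fin 7 → ℕ) (σ i) = (![2, 3, 4, 5, 5, 3, 2] : Fin 7 → ℕ) i :=
    inv_step hσ h1 (by decide +kernel)
  have h3 : ∀ i, (![4, 5, 7, 12, 8, 7, 3] : Fin 7 → ℕ) (σ i) = (![4, 5, 7, 12, 8, 7, 3] : Fin 7 → ℕ) i :=
    inv_step hσ h2 (by decide +kernel)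
  refine sym_one (g := ![4, 5, 7, 12, 8, 7, 3] + 100 • ![2, 3, 4, 5, 5, 3, 2])
    (fun i => ?_) (by decide)
  rw [Pi.add_apply, Pi.add_apply, Pi.smul_apply, Pi.smul_apply, h2, h3]

theorem sym_E8 (σ : Equiv.Perm (Fin 8)) (hσ : ∀ i j, CoxeterMatrix.E₈ (σ i) (σ j) = CoxeterMatrix.E₈ i j) :
    σ = 1 := by
  have h1 : ∀ i, (![1, 1, 2, 3, 2, 2, 2, 1] : Fin 8 → ℕ) (σ i) = (![1, 1, 2, 3, 2, 2, 2, 1] : Fin 8 → ℕ) i :=
    inv_step hσ (g := fun _ => 1) (fun _ => rfl) (by decide +kernel)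
  have h2 : ∀ i, (![2, 3, 4, 5, 5, 4, 3, 2] : Fin 8 → ℕ) (σ i) = (![2, 3, 4, 5, 5, 4, 3, 2] : Fin 8 → ℕ) i :=
    inv_step hσ h1 (by decide +kernel)
  exact sym_one (g := ![4, 5, 7, 12, 9, 8, 6, 3])
    (fun i => inv_step hσ h2 (by decide +kernel) i) (by decide)

set_option backward.isDefEq.respectTransparency false in
theorem sym_F4 : ∀ σ : Equiv.Perm (Fin 4), (∀ i j, CoxeterMatrix.F₄ (σ i) (σ j) = CoxeterMatrix.F₄ i j) →
    σ = 1 ∨ σ = H69.OutGF.flip4' := by
  decide +kernel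

/-! ### the Chevalley groups -/

section chev

variable {D : ChevalleyDatum} {l : ℕ} {M : CoxeterMatrix (Fin l)} (hp : IsType D l M) (K : Type) [Field K]
  [Fintype K] {W : Type*} [Group W] [Finite W] (cs : CoxeterSystem M W) (p : ℕ) [Fact p.Prime] [CharP K p]

include p in
/-- frame automorphisms without diagram part are in `PM` -/
theorem pm_of_diag_one {γ : MulAut ↥(D.group K)} (hγ : Diag (TG D K) (XX D l K) γ 1) :
    PM cs hp.isCartan (TG D K) (XX D l K) γ := by
  have R := rgd (K := K) hp cs p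
  refine ⟨hγ.tor, Or.inl ?_⟩
  intro x hx y
  exact hγ.root_comp R (fun _ _ => rfl) hx y

include p in
/-- **The Chevalley groups with a frame.** -/
theorem extD3_chev (hK : Odd (Fintype.card K)) (hsim : IsSimpleGroup ↥(D.group K) ∧ ¬ IsMulCommutative ↥(D.group K))
    {k s : ℕ} {c : Cert} (hA : IsTab (cartanOf D l) c.AL) (hc : Ok l k (2 ^ s) c) (hs : 2 ≤ s)
    (hO1 : ∀ a < k, ∀ b < k, a ≠ b → Orth D l (toV l (c.T.getD a [])) (toV l (c.T.getD b [])))
    (hlk : ∀ j, ∃ i, lk D l i j)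
    (hord : ∀ m : ℕ, 2 ^ m ∣ Nat.card ↥(D.group K) →
      2 ^ m ∣ Nat.card ↥(D.diagonalSubgroup K) * 2 ^ s * (Fintype.card K + 1) ^ k)
    (hpm : ∀ (γ : MulAut ↥(D.group K)) (σ : Equiv.Perm (Fin l)), Diag (TG D K) (XX D l K) γ σ →
      ∃ m : ↥(D.group K), PM cs hp.isCartan (TG D K) (XX D l K) (MulAut.conj m * γ)) : ExtD3 ↥(D.group K) := by
  have := hsim.1
  have hna : ¬ ∀ a b : ↥(D.group K), a * b = b * a := fun h => hsim.2 ⟨⟨fun a b => h a b⟩⟩
  have hp2 : p ≠ 2 := by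
    rintro rfl
    exact two_ne K hK CharTwo.two_eq_zero
  obtain ⟨f1, f2, f3, hcard⟩ := wframe' cs hp.isCartan hA hc
  have F : FrameData cs hp.isCartan (XX D l K) (fun a : Fin k => toV l (c.T.getD a [])) (Subgroup.closure (Gm cs c)) :=
    ⟨fun a => f1 a a.2, fun a b hab => lc_of_orth hp K (hO1 a a.2 b b.2 fun e => hab (Fin.ext e)), f2, f3⟩
  have hT : Nat.card (TG D K) = Nat.card ↥(D.diagonalSubgroup K) :=
    Nat.card_congr (Subgroup.subgroupOfEquivOfLe (Cfsg.Agent.ChevalleyStructure.Elts.diagonal_le_group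
      hp.inList K)).toEquiv
  have R := rgd (K := K) hp cs p
  refine extD3_of_frame (rgd (K := K) hp cs p) (center_of_simple hna) (commutator_of_simple hna)
    (Cfsg.Agent.KFacts.RgdRigid.GG_eq_top (G1_eq_top hp cs)) (FrE6.noFix hp K cs p hp2 hlk) F (isSL hp K hK) ?_
    (rk2_cert cs hp.isCartan hA hc hs) ?_
  · refine odd_index (rgd (K := K) hp cs p) F (G1_eq_top hp cs) (isSL hp K hK) ?_
    intro m hm
    rw [hT, hcard, Finset.prod_congr rfl fun a _ => by rw [card_XX hp K cs (F.root a)], Finset.prod_const,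
      Finset.card_univ, Fintype.card_fin]
    exact hord m hm
  · intro τ
    obtain ⟨g, σ, hγ⟩ := Cfsg.Agent.H69.OutCount.exists_diag_conj (rgd (K := K) hp cs p) (G1_eq_top hp cs) τ
    obtain ⟨m, hm⟩ := hpm _ _ hγ
    exact ⟨m * g, by rw [map_mul, mul_assoc]; exact hm⟩

end chev

section rows

variable (K : Type) [Field K] [Fintype K] (hK : Odd (Fintype.card K))

include hK

theorem extD3_e7' : ExtD3 ↥(chevE7.group K) := by
  obtain ⟨p, hpc⟩ := CharP.exists K
  have : Fact p.Prime := ⟨CharP.char_is_prime K p⟩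
  have : Finite CoxeterMatrix.E₇.Group := finite_W isType_E7 CoxeterMatrix.E₇.toCoxeterSystem
  refine extD3_chev isType_E7 K CoxeterMatrix.E₇.toCoxeterSystem p hK (S1054.result chevE7 (by simp)) (s := 3)
    tabE7 okE7 (by norm_num) (fun a ha b hb hab => orth_of (orth1E7 a ha b hb hab)) (by decide +kernel)
    (Orders.ord_E7 hK (three_le hK) (Nat.gcd_pos_of_pos_left _ (by norm_num)).ne' (S1064.result (F := K) rfl)
      (S1035.result (F := K) rfl (chevE7, Nat.gcd 2 (Fintype.card K - 1)) (by simp only [_root_.List.mem_cons, _root_.Prod.mk.injEq, _root_.Nat.coprime_two_left, _root_.and_true, _root_.List.not_mem_nil, _root_.or_false, _root_.true_or, _root_.or_true]))) ?_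
  intro γ σ hγ
  have hσ := sym_E7 σ (hγ.matrix (rgd (K := K) isType_E7 CoxeterMatrix.E₇.toCoxeterSystem p))
  subst hσ
  exact ⟨1, by rw [map_one, one_mul]; exact pm_of_diag_one isType_E7 K _ p hγ⟩

theorem extD3_e8' : ExtD3 ↥(chevE8.group K) := by
  obtain ⟨p, hpc⟩ := CharP.exists K
  have : Fact p.Prime := ⟨CharP.char_is_prime K p⟩
  have : Finite CoxeterMatrix.E₈.Group := finite_W isType_E8 CoxeterMatrix.E₈.toCoxeterSystem
  have hT := S1035.result (F := K) rfl (chevE8, 1) (by simp only [_root_.List.mem_cons, _root_.Prod.mk.injEq, _root_.and_true, _root_.List.not_mem_nil, _root_.or_false, _root_.true_or, _root_.or_true])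
  rw [one_mul] at hT
  refine extD3_chev isType_E8 K CoxeterMatrix.E₈.toCoxeterSystem p hK (S1054.result chevE8 (by simp)) (s := 6)
    tabE8 okE8 (by norm_num) (fun a ha b hb hab => orth_of (orth1E8 a ha b hb hab)) (by decide +kernel)
    (Orders.ord_E8 hK (three_le hK) (S1065.result (F := K) rfl) hT) ?_
  intro γ σ hγ
  have hσ := sym_E8 σ (hγ.matrix (rgd (K := K) isType_E8 CoxeterMatrix.E₈.toCoxeterSystem p))
  subst hσ
  exact ⟨1, by rw [map_one, one_mul]; exact pm_of_diag_one isType_E8 K _ p hγ⟩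

theorem extD3_e6' : ExtD3 ↥(chevE6.group K) := by
  obtain ⟨p, hpc⟩ := CharP.exists K
  have : Fact p.Prime := ⟨CharP.char_is_prime K p⟩
  have : Finite CoxeterMatrix.E₆.Group := finite_W isType_E6 CoxeterMatrix.E₆.toCoxeterSystem
  refine extD3_chev isType_E6 K CoxeterMatrix.E₆.toCoxeterSystem p hK (S1054.result chevE6 (by simp)) (s := 3)
    tabE6 okE6 (by norm_num) (fun a ha b hb hab => orth_of (orth1E6 a ha b hb hab)) (by decide +kernel)
    (Orders.ord_E6 hK (three_le hK) (Nat.gcd_pos_of_pos_left _ (by norm_num)).ne' (S1063.result (F := K) rfl)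
      (S1035.result (F := K) rfl (chevE6, Nat.gcd 3 (Fintype.card K - 1)) (by simp only [_root_.List.mem_cons, _root_.Prod.mk.injEq, _root_.List.not_mem_nil, _root_.or_false, _root_.true_or, _root_.or_true]))) ?_
  intro γ σ hγ
  obtain ⟨m, -, hm⟩ := FrE6.pm_of_diag K CoxeterMatrix.E₆.toCoxeterSystem p hγ
  exact ⟨m, hm⟩

open scoped Pointwise in
omit hK in
theorem smul_of_iff {Y : Type*} [Group Y] {γ : MulAut Y} {A B : Subgroup Y} (h : ∀ y, γ y ∈ B ↔ y ∈ A) : γ • A = B := by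
  ext y
  rw [Subgroup.mem_pointwise_smul_iff_inv_smul_mem, ← h, MulAut.smul_def, MulAut.apply_inv_self]

omit [Fintype K] hK in
theorem not_flip_F4 {γ : MulAut ↥(chevF4.group K)} (h2 : (2 : K) ≠ 0) (hγ : Diag (TG chevF4 K) (XX chevF4 4 K) γ H69.OutGF.flip4') : False := by
  have hpos : ∀ i : Fin 4, XX chevF4 4 K (sr i) = H70.ChevFix.XX chevF4 K (chevF4.simple i) := by
    intro i
    show (XV chevF4 4 K (sr i)).subgroupOf _ = (chevF4.rootSubgroup K (chevF4.simple i)).subgroupOf _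
    rw [XV_sr isType_F4]
  have hneg : ∀ i : Fin 4, XX chevF4 4 K (-sr i) = H70.ChevFix.XX chevF4 K (chevF4.neg (chevF4.simple i)) := by
    intro i
    show (XV chevF4 4 K (-sr i)).subgroupOf _ =
      (chevF4.rootSubgroup K (chevF4.neg (chevF4.simple i))).subgroupOf _
    rw [XV_neg_sr isType_F4]
  have key1 : ∀ (i : Fin 4) (y : ↥(chevF4.group K)), γ y ∈ H70.ChevFix.XX chevF4 K (chevF4.simple (H69.OutGF.flip4' i)) ↔
      y ∈ H70.ChevFix.XX chevF4 K (chevF4.simple i) := by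
    intro i y
    rw [← hpos, ← hpos]
    exact hγ.pos i y
  have key2 : ∀ (i : Fin 4) (y : ↥(chevF4.group K)),
      γ y ∈ H70.ChevFix.XX chevF4 K (chevF4.neg (chevF4.simple (H69.OutGF.flip4' i))) ↔
      y ∈ H70.ChevFix.XX chevF4 K (chevF4.neg (chevF4.simple i)) := by
    intro i y
    rw [← hneg, ← hneg]
    exact hγ.neg i y
  exact H69.OutGF.flip4_not_mem (F := K) h2 ⟨γ, ⟨fun i => smul_of_iff (key1 i), fun i => smul_of_iff (key2 i)⟩⟩

theorem extD3_f4' : ExtD3 ↥(chevF4.group K) := by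
  obtain ⟨p, hpc⟩ := CharP.exists K
  have : Fact p.Prime := ⟨CharP.char_is_prime K p⟩
  have : Finite CoxeterMatrix.F₄.Group := finite_W isType_F4 CoxeterMatrix.F₄.toCoxeterSystem
  have hT := S1035.result (F := K) rfl (chevF4, 1) (by simp only [_root_.List.mem_cons, _root_.Prod.mk.injEq, _root_.and_true, _root_.List.not_mem_nil, _root_.or_false, _root_.true_or, _root_.or_true])
  rw [one_mul] at hT
  refine extD3_chev isType_F4 K CoxeterMatrix.F₄.toCoxeterSystem p hK (S1054.result chevF4 (by simp)) (s := 3)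
    tabF4 okF4 (by norm_num) (fun a ha b hb hab => orth_of (orth1F4 a ha b hb hab)) (by decide +kernel)
    (Orders.ord_F4 hK (three_le hK) (S1062.result (F := K) rfl) hT) ?_
  intro γ σ hγ
  rcases sym_F4 σ (hγ.matrix (rgd (K := K) isType_F4 CoxeterMatrix.F₄.toCoxeterSystem p)) with rfl | rfl
  · exact ⟨1, by rw [map_one, one_mul]; exact pm_of_diag_one isType_F4 K _ p hγ⟩
  · exact (not_flip_F4 K (two_ne K hK) hγ).elim

end rows

/-! ### `²E₆(q)` -/

open Cfsg.Agent.Nodes.RGDTwE6 (X nn isCartan foldData) in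
theorem extD3_twE6' {K : Type} [Field K] [Fintype K] {q : ℕ} (hq : IsPrimePow q) (hK : Fintype.card K = q ^ 2)
    (ho : Odd q) : ExtD3 ↥(twistedE6 K q) := by
  obtain ⟨φ, hφ, hqq⟩ := Cfsg.Agent.ChevalleyStructure.TwE6Basic.exists_frob hq hK
  obtain ⟨p, hpc⟩ := CharP.exists K
  have : Fact p.Prime := ⟨CharP.char_is_prime K p⟩
  have hfin : Finite CoxeterMatrix.F₄.Group :=
    Cfsg.Agent.Nodes.RGDFold.finite_W (hp := RGDTwE6.hp) CoxeterMatrix.F₄.toCoxeterSystem isCartan foldData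
  have hsim := S1070.result hq hK
  have := hsim.1
  have hna : ¬ ∀ a b : ↥(twistedE6 K q), a * b = b * a := fun h => hsim.2 ⟨⟨fun a b => h a b⟩⟩
  have hKo : Odd (Fintype.card K) := by rw [hK]; exact ho.pow
  have hp2 : p ≠ 2 := by
    rintro rfl
    exact SL.two_ne hKo CharTwo.two_eq_zero
  have hN := ClosedTw.nodes hφ hqq hq.one_lt hK ho (SL.two_ne hKo)
  let cs := CoxeterMatrix.F₄.toCoxeterSystem
  have F := frameData_tw (K := K) (q := q) (φ := φ) cs
  refine extD3_of_frame (RGDTwE6.rgd cs hφ hqq p) (center_of_simple hna) (commutator_of_simple hna)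
    (Cfsg.Agent.KFacts.RgdRigid.GG_eq_top (RGDTwE6.G1_eq_top cs hφ hqq)) (FrTw.noFix hφ hqq cs p hp2) F
    (fun i => (hN i).2) (FrTw.odd_index_tw hφ hqq cs p hq hK ho F (Fintype.card_fin 4) (card_P_tw cs) (long_tw cs))
    (rk2_cert cs isCartan tabTwE6 (s := 3) okTwE6 (by norm_num)) ?_
  intro τ
  obtain ⟨g, σ, hγ⟩ := Cfsg.Agent.H69.OutCount.exists_diag_conj (RGDTwE6.rgd cs hφ hqq p)
    (RGDTwE6.G1_eq_top cs hφ hqq) τ
  exact ⟨g, FrTw.pm_of_diag hφ hqq cs p hq.one_lt hK hγ⟩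

/-! ### the rows -/

section iso

variable {S : Type u} [Group S] [Finite S] {K : Type} [Field K] [Fintype K]

/-- **`F₄(q)`, `q` odd** -/
theorem extD3_f4 (hK : Odd (Fintype.card K)) (e : S ≃* chevF4.group K) : ExtD3 S := extD3_congr e (extD3_f4' K hK)

/-- **`E₆(q)`, `q` odd** -/
theorem extD3_e6 (hK : Odd (Fintype.card K)) (e : S ≃* chevE6.group K) : ExtD3 S := extD3_congr e (extD3_e6' K hK)

/-- **`E₇(q)`, `q` odd** -/
theorem extD3_e7 (hK : Odd (Fintype.card K)) (e : S ≃* chevE7.group K) : ExtD3 S := extD3_congr e (extD3_e7' K hK)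

/-- **`E₈(q)`, `q` odd** -/
theorem extD3_e8 (hK : Odd (Fintype.card K)) (e : S ≃* chevE8.group K) : ExtD3 S := extD3_congr e (extD3_e8' K hK)

/-- **`²E₆(q)`, `q` odd** -/
theorem extD3_twE6 {q : ℕ} (hq : IsPrimePow q) (hK : Fintype.card K = q ^ 2) (ho : Odd q)
    (e : S ≃* twistedE6 K q) : ExtD3 S := extD3_congr e (extD3_twE6' hq hK ho)

end iso

end Cfsg.Agent.H951.K547
end
end
end
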